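import Mathlib
import Cfsg.Prelude.Def_OddOrderLocal
import Cfsg.Agent.Lib.PGroup.Basic
import Cfsg.Agent.Lib.PGroup.Meta
import Cfsg.Agent.Lib.Transfer.Special
import Cfsg.Agent.Lib.Transfer.Metacyc
import Cfsg.Agent.Lib.ClassSizes.Metacyclic

/-!
# Coprime automorphisms of metacyclic `p`-groups, `p` odd

If `Γ` acts coprimely on a metacyclic `p`-group `X` (`p` odd) and `[X, Γ] = X`, then `X` is abelian.
The heart of the proof is a dichotomy for the automorphisms of `X` when `|X'| = p`.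
-/

set_option autoImplicit false

namespace Cfsg.Agent.Lib.OddLocal.MetaCoprime

open Subgroup Cfsg
open scoped commutatorElement

section Red

variable {Q : Type*} [Group Q] {p : ℕ} [hp : Fact p.Prime]

/-- The reduced situation: a `p`-group `⟨a⟩⟨b⟩` whose commutator subgroup has order `p`. -/
structure Red (p : ℕ) (a b : Q) : Prop where
  pg : IsPGroup p Q
  odd : p ≠ 2
  gen : ∀ g : Q, ∃ i j : ℕ, g = a ^ i * b ^ j
  card : Nat.card (commutator Q) = p

namespace Red

variable {a b : Q}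

theorem cmem (x y : Q) : ⁅x, y⁆ ∈ commutator Q :=
  Subgroup.commutator_mem_commutator (mem_top x) (mem_top y)

variable [Finite Q]

theorem central (h : Red p a b) (x y z : Q) : Commute ⁅x, y⁆ z := by
  have h1 := Cfsg.Agent.Lib.PGroup.le_center_of_normal_of_card_eq_prime h.pg (commutator Q) h.card
  exact ((Subgroup.mem_center_iff.mp (h1 (cmem x y))) z).symm

theorem comm_pow (h : Red p a b) {c : Q} (hc : c ∈ commutator Q) : c ^ p = 1 := by
  have h1 : ((⟨c, hc⟩ : commutator Q)) ^ Nat.card (commutator Q) = 1 := pow_card_eq_one'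
  rw [h.card] at h1
  exact congrArg Subtype.val h1

/-- `x ↦ ⁅x, y⁆`. -/
def lh (h : Red p a b) (y : Q) : Q →* Q where
  toFun x := ⁅x, y⁆
  map_one' := commutatorElement_one_left y
  map_mul' x x' := by
    have e : ⁅x * x', y⁆ = x * ⁅x', y⁆ * x⁻¹ * ⁅x, y⁆ := by
      simp only [commutatorElement_def]; group
    rw [e, ← (h.central x' y x).eq, mul_inv_cancel_right, (h.central x' y _).eq]

/-- `y ↦ ⁅x, y⁆`. -/
def rh (h : Red p a b) (x : Q) : Q →* Q where
  toFun y := ⁅x, y⁆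
  map_one' := commutatorElement_one_right x
  map_mul' y y' := by
    have e : ⁅x, y * y'⁆ = ⁅x, y⁆ * (y * ⁅x, y'⁆ * y⁻¹) := by
      simp only [commutatorElement_def]; group
    rw [e, ← (h.central x y' y).eq, mul_inv_cancel_right]

@[simp] theorem lh_apply (h : Red p a b) (x y : Q) : h.lh y x = ⁅x, y⁆ := rfl
@[simp] theorem rh_apply (h : Red p a b) (x y : Q) : h.rh x y = ⁅x, y⁆ := rfl

theorem comm_mul_left (h : Red p a b) (x x' y : Q) : ⁅x * x', y⁆ = ⁅x, y⁆ * ⁅x', y⁆ :=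
  map_mul (h.lh y) x x'

theorem comm_mul_right (h : Red p a b) (x y y' : Q) : ⁅x, y * y'⁆ = ⁅x, y⁆ * ⁅x, y'⁆ :=
  map_mul (h.rh x) y y'

theorem comm_pow_left (h : Red p a b) (x y : Q) (n : ℕ) : ⁅x ^ n, y⁆ = ⁅x, y⁆ ^ n :=
  map_pow (h.lh y) x n

theorem comm_pow_right (h : Red p a b) (x y : Q) (n : ℕ) : ⁅x, y ^ n⁆ = ⁅x, y⁆ ^ n :=
  map_pow (h.rh x) y n

theorem comm_inv_left (h : Red p a b) (x y : Q) : ⁅x⁻¹, y⁆ = ⁅x, y⁆⁻¹ :=
  map_inv (h.lh y) x

theorem comm_inv_right (h : Red p a b) (x y : Q) : ⁅x, y⁻¹⁆ = ⁅x, y⁆⁻¹ :=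
  map_inv (h.rh x) y

theorem comm_self (x : Q) : ⁅x, x⁆ = 1 := commutatorElement_self x

theorem comm_swap (x y : Q) : ⁅y, x⁆ = ⁅x, y⁆⁻¹ := (commutatorElement_inv x y).symm

theorem comm_gen (h : Red p a b) (i j k l : ℕ) :
    ⁅a ^ i * b ^ j, a ^ k * b ^ l⁆ = ⁅a, b⁆ ^ (i * l) * (⁅a, b⁆ ^ (j * k))⁻¹ := by
  rw [h.comm_mul_left, h.comm_pow_left, h.comm_pow_left, h.comm_mul_right, h.comm_mul_right,
    h.comm_pow_right, h.comm_pow_right, h.comm_pow_right, h.comm_pow_right, comm_self, comm_self,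
    one_pow, one_pow, one_mul, mul_one, comm_swap a b, inv_pow, inv_pow, ← pow_mul, ← pow_mul, mul_comm l i,
    mul_comm k j]

theorem ne_one (h : Red p a b) : ⁅a, b⁆ ≠ 1 := by
  intro h0
  have hc : ∀ x y : Q, ⁅x, y⁆ = 1 := by
    intro x y
    obtain ⟨i, j, rfl⟩ := h.gen x
    obtain ⟨k, l, rfl⟩ := h.gen y
    rw [h.comm_gen, h0]
    simp
  have : commutator Q = ⊥ := by
    rw [commutator_def, eq_bot_iff, Subgroup.commutator_le]
    intro x _ y _
    rw [hc]
    exact one_mem _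
  have h1 := h.card
  rw [this, Subgroup.card_bot] at h1
  exact hp.out.one_lt.ne h1

theorem orderOf_of_ne (h : Red p a b) {c : Q} (hc : c ∈ commutator Q) (hc1 : c ≠ 1) : orderOf c = p :=
  orderOf_eq_prime (h.comm_pow hc) hc1

/-- A non-identity element generates the commutator subgroup. -/
theorem exists_pow (h : Red p a b) {g c : Q} (hg : g ∈ commutator Q) (hg1 : g ≠ 1)
    (hc : c ∈ commutator Q) : ∃ n : ℕ, c = g ^ n := by
  have h1 : Subgroup.zpowers g ≤ commutator Q := by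
    rw [Subgroup.zpowers_le]; exact hg
  have h2 : Subgroup.zpowers g = commutator Q := by
    apply Subgroup.eq_of_le_of_card_ge h1
    rw [h.card, Nat.card_zpowers, h.orderOf_of_ne hg hg1]
  rw [← h2] at hc
  obtain ⟨n, hn⟩ := mem_powers_iff_mem_zpowers.mpr hc
  exact ⟨n, hn.symm⟩

theorem eq_one_of_pow (h : Red p a b) {c : Q} (hc : c ∈ commutator Q) {n : ℕ} (hn : c ^ n = 1)
    (hpn : ¬ p ∣ n) : c = 1 := by
  by_contra hc1
  exact hpn (h.orderOf_of_ne hc hc1 ▸ orderOf_dvd_of_pow_eq_one hn)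

/-- Cancelling a power prime to `p` among elements of the commutator subgroup. -/
theorem cancel (h : Red p a b) {u v : Q} (hu : u ∈ commutator Q) (hv : v ∈ commutator Q) {n : ℕ}
    (he : u ^ n = v ^ n) (hpn : ¬ p ∣ n) : u = v := by
  have hcomm : Commute u v := by
    have h1 := Cfsg.Agent.Lib.PGroup.le_center_of_normal_of_card_eq_prime h.pg (commutator Q) h.card
    exact ((Subgroup.mem_center_iff.mp (h1 hu)) v).symm
  have hm : u * v⁻¹ ∈ commutator Q := mul_mem hu (inv_mem hv)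
  have h2 : (u * v⁻¹) ^ n = 1 := by
    rw [(hcomm.inv_right).mul_pow, inv_pow, he, mul_inv_cancel]
  have h3 := h.eq_one_of_pow hm h2 hpn
  exact mul_inv_eq_one.mp h3

theorem mul_pow_p (h : Red p a b) (x y : Q) : (x * y) ^ p = x ^ p * y ^ p :=
  Cfsg.Agent.Lib.Transfer.mul_pow_of_comm_pow h.odd (h.central _ _ _) (h.central _ _ _)
    (h.comm_pow (cmem _ _))

theorem mul_pow_pp (h : Red p a b) (j : ℕ) : ∀ x y : Q, (x * y) ^ (p ^ j) = x ^ (p ^ j) * y ^ (p ^ j) := by
  induction j with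
  | zero => intro x y; simp
  | succ j ih =>
    intro x y
    rw [pow_succ', pow_mul, pow_mul, pow_mul, h.mul_pow_p, ih]

theorem mem_center_of_comm (h : Red p a b) {r : Q} (h1 : ⁅r, a⁆ = 1) (h2 : ⁅r, b⁆ = 1) :
    r ∈ center Q := by
  rw [Subgroup.mem_center_iff]
  intro g
  obtain ⟨i, j, rfl⟩ := h.gen g
  have ha : Commute r a := commutatorElement_eq_one_iff_commute.mp h1
  have hb : Commute r b := commutatorElement_eq_one_iff_commute.mp h2
  exact (((ha.pow_right i).mul_right (hb.pow_right j)).eq).symm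

/-- Two non-commuting elements have no common centralizer outside the centre. -/
theorem center_of_comm (h : Red p a b) {x w r : Q} (hxw : ⁅x, w⁆ ≠ 1) (h1 : ⁅r, x⁆ = 1)
    (h2 : ⁅r, w⁆ = 1) : r ∈ center Q := by
  obtain ⟨i, j, rfl⟩ := h.gen x
  obtain ⟨k, l, rfl⟩ := h.gen w
  rw [h.comm_mul_right, h.comm_pow_right, h.comm_pow_right] at h1 h2
  have hcomm : Commute ⁅r, a⁆ ⁅r, b⁆ := h.central _ _ _
  have hne : ¬ (i * l) ≡ (j * k) [MOD p] := by
    intro he
    apply hxw
    rw [h.comm_gen]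
    have : ⁅a, b⁆ ^ (i * l) = ⁅a, b⁆ ^ (j * k) := by
      apply (pow_eq_pow_iff_modEq).mpr
      rw [h.orderOf_of_ne (cmem _ _) h.ne_one]
      exact he
    rw [this, mul_inv_cancel]
  have hfa : ⁅r, a⁆ = 1 := by
    by_contra h0
    have e1 : ⁅r, a⁆ ^ (i * l) = ⁅r, a⁆ ^ (j * k) := by
      have e2 : ⁅r, a⁆ ^ (i * l) * ⁅r, b⁆ ^ (j * l) = 1 := by
        rw [pow_mul, pow_mul ⁅r, b⁆, ← (hcomm.pow_pow i j).mul_pow, h1, one_pow]
      have e3 : ⁅r, a⁆ ^ (j * k) * ⁅r, b⁆ ^ (j * l) = 1 := by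
        rw [pow_mul', pow_mul' ⁅r, b⁆, ← (hcomm.pow_pow k l).mul_pow, h2, one_pow]
      exact mul_right_cancel (e2.trans e3.symm)
    apply hne
    have e4 := (pow_eq_pow_iff_modEq).mp e1
    rwa [h.orderOf_of_ne (cmem _ _) h0] at e4
  have hfb : ⁅r, b⁆ = 1 := by
    by_contra h0
    have e1 : ⁅r, b⁆ ^ (i * l) = ⁅r, b⁆ ^ (j * k) := by
      have e2 : ⁅r, a⁆ ^ (i * k) * ⁅r, b⁆ ^ (j * k) = 1 := by
        rw [pow_mul, pow_mul ⁅r, b⁆, ← (hcomm.pow_pow i j).mul_pow, h1, one_pow]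
      have e3 : ⁅r, a⁆ ^ (i * k) * ⁅r, b⁆ ^ (i * l) = 1 := by
        rw [pow_mul', pow_mul' ⁅r, b⁆, ← (hcomm.pow_pow k l).mul_pow, h2, one_pow]
      exact mul_left_cancel (e3.trans e2.symm)
    apply hne
    have e4 := (pow_eq_pow_iff_modEq).mp e1
    rwa [h.orderOf_of_ne (cmem _ _) h0] at e4
  exact h.mem_center_of_comm hfa hfb

/-- Two non-commuting elements generate modulo the centre. -/
theorem elem_form (h : Red p a b) {x w : Q} (hxw : ⁅x, w⁆ ≠ 1) (v : Q) :
    ∃ s t : ℕ, (x ^ s * w ^ t)⁻¹ * v ∈ center Q := by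
  obtain ⟨s, hs⟩ := h.exists_pow (cmem x w) hxw (cmem v w)
  obtain ⟨t, ht⟩ := h.exists_pow (cmem x w) hxw (cmem x v)
  refine ⟨s, t, ?_⟩
  have e1 : ⁅(x ^ s * w ^ t)⁻¹ * v, w⁆ = 1 := by
    rw [h.comm_mul_left, h.comm_inv_left, h.comm_mul_left, h.comm_pow_left, h.comm_pow_left, comm_self,
      one_pow, mul_one, hs, inv_mul_cancel]
  have e2 : ⁅x, (x ^ s * w ^ t)⁻¹ * v⁆ = 1 := by
    rw [h.comm_mul_right, h.comm_inv_right, h.comm_mul_right, h.comm_pow_right, h.comm_pow_right, comm_self,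
      one_pow, one_mul, ht, inv_mul_cancel]
  have e3 : ⁅(x ^ s * w ^ t)⁻¹ * v, x⁆ = 1 := by
    rw [comm_swap, e2, inv_one]
  exact h.center_of_comm hxw e3 e1

/-- Central elements are `p`-th powers. -/
theorem center_pow (h : Red p a b) {z : Q} (hz : z ∈ center Q) : ∃ w : Q, z = w ^ p := by
  obtain ⟨i, j, rfl⟩ := h.gen z
  have hcz : ∀ y : Q, ⁅a ^ i * b ^ j, y⁆ = 1 := fun y =>
    commutatorElement_eq_one_iff_commute.mpr (((Subgroup.mem_center_iff.mp hz) y).symm)
  have hi : p ∣ i := by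
    have e : ⁅a, b⁆ ^ i = 1 := by
      have := hcz b
      rwa [h.comm_mul_left, h.comm_pow_left, h.comm_pow_left, comm_self, one_pow, mul_one] at this
    rw [← h.orderOf_of_ne (cmem _ _) h.ne_one]
    exact orderOf_dvd_of_pow_eq_one e
  have hj : p ∣ j := by
    have e : ⁅b, a⁆ ^ j = 1 := by
      have := hcz a
      rwa [h.comm_mul_left, h.comm_pow_left, h.comm_pow_left, comm_self, one_pow, one_mul] at this
    have hne : ⁅b, a⁆ ≠ 1 := by
      rw [comm_swap a b]
      exact inv_ne_one.mpr h.ne_one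
    rw [← h.orderOf_of_ne (cmem _ _) hne]
    exact orderOf_dvd_of_pow_eq_one e
  obtain ⟨i', rfl⟩ := hi
  obtain ⟨j', rfl⟩ := hj
  refine ⟨a ^ i' * b ^ j', ?_⟩
  rw [h.mul_pow_p, ← pow_mul, ← pow_mul, mul_comm i', mul_comm j']

/-- An automorphism acts on the commutator subgroup as a power map. -/
theorem exists_lambda (h : Red p a b) (σ : MulAut Q) :
    ∃ l : ℕ, ¬ p ∣ l ∧ ∀ q ∈ commutator Q, σ q = q ^ l := by
  have hne : ⁅a, b⁆ ≠ 1 := h.ne_one
  have hσ : σ ⁅a, b⁆ = ⁅σ a, σ b⁆ := map_commutatorElement σ a b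
  obtain ⟨l, hl⟩ := h.exists_pow (c := σ ⁅a, b⁆) (cmem a b) hne (by rw [hσ]; exact cmem (σ a) (σ b))
  refine ⟨l, ?_, ?_⟩
  · intro hpl
    have h1 : σ ⁅a, b⁆ = 1 := by
      rw [hl]
      apply orderOf_dvd_iff_pow_eq_one.mp
      rw [h.orderOf_of_ne (cmem a b) hne]
      exact hpl
    exact hne ((map_eq_one_iff σ (MulEquiv.injective σ)).mp h1)
  · intro q hq
    obtain ⟨n, rfl⟩ := h.exists_pow (cmem a b) hne hq
    rw [map_pow, hl, ← pow_mul, ← pow_mul, mul_comm]

/-- **The dichotomy**: the automorphism group of a reduced group fixes a point of `Q/Z(Q)` or acts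
trivially on a hyperplane quotient. -/
theorem dichotomy (h : Red p a b) :
    (∃ x, x ∉ center Q ∧ ∀ σ : MulAut Q, σ x * x⁻¹ ∈ center Q) ∨
      (∃ y, y ∉ center Q ∧ ∀ (σ : MulAut Q) (r : Q), ⁅σ r * r⁻¹, y⁆ = 1) := by
  classical
  obtain ⟨n, hn⟩ := IsPGroup.iff_card.mp h.pg
  let P : ℕ → Prop := fun j => ∃ y : Q, y ^ (p ^ j) ∈ commutator Q ∧ y ^ (p ^ j) ≠ 1
  have hP0 : P 0 := ⟨⁅a, b⁆, by simpa using cmem a b, by simpa using h.ne_one⟩
  have hfg : P (Nat.findGreatest P n) := Nat.findGreatest_spec (m := 0) (Nat.zero_le n) hP0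
  set j := Nat.findGreatest P n with hj
  have hmax : ¬ P (j + 1) := by
    by_cases hle : j + 1 ≤ n
    · exact Nat.findGreatest_is_greatest (Nat.lt_succ_self j) hle
    · rintro ⟨y, _, hy⟩
      apply hy
      have hdvd : Nat.card Q ∣ p ^ (j + 1) := by
        rw [hn]
        exact pow_dvd_pow p (by omega)
      obtain ⟨c, hc⟩ := hdvd
      rw [hc, pow_mul, pow_card_eq_one', one_pow]
  obtain ⟨y, hyc, hy1⟩ := hfg
  have hE : ∀ k z : Q, k ^ (p ^ j) = 1 → z ∈ center Q → y ≠ k * z := by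
    intro k z hk hz he
    obtain ⟨w, rfl⟩ := h.center_pow hz
    apply hmax
    have e : y ^ (p ^ j) = w ^ (p ^ (j + 1)) := by
      rw [he, h.mul_pow_pp, hk, one_mul, pow_succ', pow_mul]
    exact ⟨w, e ▸ hyc, e ▸ hy1⟩
  have hyZ : y ∉ center Q := by
    intro hy
    exact hE 1 y (one_pow _) hy (one_mul y).symm
  -- the action on `y`
  have hσ : ∀ σ : MulAut Q, ∃ (l : ℕ) (k : Q), ¬ p ∣ l ∧ (∀ q ∈ commutator Q, σ q = q ^ l) ∧
      k ^ (p ^ j) = 1 ∧ σ y = k * y ^ l := by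
    intro σ
    obtain ⟨l, hl, hq⟩ := h.exists_lambda σ
    refine ⟨l, σ y * (y ^ l)⁻¹, hl, hq, ?_, by group⟩
    rw [h.mul_pow_pp, ← map_pow, hq _ hyc, inv_pow, ← pow_mul, ← pow_mul, mul_comm l, mul_inv_cancel]
  by_cases hEZ : ∀ k : Q, k ^ (p ^ j) = 1 → k ∈ center Q
  · right
    refine ⟨y, hyZ, ?_⟩
    intro σ r
    obtain ⟨l, k, hl, hq, hk, hy⟩ := hσ σ
    have hkZ := hEZ k hk
    have e1 : ⁅σ r, σ y⁆ = ⁅r, y⁆ ^ l := by
      rw [← hq _ (cmem r y), map_commutatorElement]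
    have e2 : ⁅σ r, σ y⁆ = ⁅σ r, y⁆ ^ l := by
      rw [hy, h.comm_mul_right, h.comm_pow_right]
      have : ⁅σ r, k⁆ = 1 := commutatorElement_eq_one_iff_commute.mpr
        ((Subgroup.mem_center_iff.mp hkZ) _)
      rw [this, one_mul]
    have e3 : ⁅σ r, y⁆ = ⁅r, y⁆ := h.cancel (cmem _ _) (cmem _ _) (e2.symm.trans e1) hl
    rw [h.comm_mul_left, h.comm_inv_left, e3, mul_inv_cancel]
  · left
    push Not at hEZ
    obtain ⟨x, hx, hxZ⟩ := hEZ
    refine ⟨x, hxZ, ?_⟩
    -- `x, y` do not commute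
    have hxy : ⁅x, y⁆ ≠ 1 := by
      intro h0
      obtain ⟨w, hw⟩ : ∃ w : Q, ⁅x, w⁆ ≠ 1 := by
        by_contra hcon
        push Not at hcon
        apply hxZ
        rw [Subgroup.mem_center_iff]
        intro g
        exact (commutatorElement_eq_one_iff_mul_comm.mp (hcon g)).symm
      obtain ⟨s, t, hz⟩ := h.elem_form hw y
      have hyf : y = x ^ s * w ^ t * ((x ^ s * w ^ t)⁻¹ * y) := by group
      have e : ⁅x, w⁆ ^ t = 1 := by
        have e1 : ⁅x, y⁆ = ⁅x, w⁆ ^ t := by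
          conv_lhs => rw [hyf]
          rw [h.comm_mul_right, h.comm_mul_right, h.comm_pow_right, h.comm_pow_right, comm_self, one_pow, one_mul]
          have : ⁅x, (x ^ s * w ^ t)⁻¹ * y⁆ = 1 := commutatorElement_eq_one_iff_commute.mpr
            ((Subgroup.mem_center_iff.mp hz) _)
          rw [this, mul_one]
        rw [← e1, h0]
      have hpt : p ∣ t := h.orderOf_of_ne (cmem x w) hw ▸ orderOf_dvd_of_pow_eq_one e
      obtain ⟨t', rfl⟩ := hpt
      have hwZ : w ^ (p * t') ∈ center Q := by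
        rw [Subgroup.mem_center_iff]
        intro g
        have : ⁅g, w ^ (p * t')⁆ = 1 := by
          rw [h.comm_pow_right, pow_mul, h.comm_pow (cmem _ _), one_pow]
        exact (commutatorElement_eq_one_iff_mul_comm.mp this)
      apply hE (x ^ s) (w ^ (p * t') * ((x ^ s * w ^ (p * t'))⁻¹ * y))
      · rw [← pow_mul, mul_comm, pow_mul, hx, one_pow]
      · exact mul_mem hwZ hz
      · rw [← mul_assoc]
        exact hyf
    -- the subgroup `E` is abelian
    have hEab : ∀ k k' : Q, k ^ (p ^ j) = 1 → k' ^ (p ^ j) = 1 → ⁅k, k'⁆ = 1 := by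
      intro k k' hk hk'
      by_contra h0
      obtain ⟨s, t, hz⟩ := h.elem_form h0 y
      apply hE (k ^ s * k' ^ t) _ _ hz
      · group
      · rw [h.mul_pow_pp, ← pow_mul, ← pow_mul, mul_comm s, mul_comm t, pow_mul, pow_mul, hk, hk']
        simp
    intro σ
    obtain ⟨l, k, hl, hq, hk, hy⟩ := hσ σ
    have hu : (σ x) ^ (p ^ j) = 1 := by rw [← map_pow, hx, map_one]
    have e1 : ⁅σ x, σ y⁆ = ⁅x, y⁆ ^ l := by
      rw [← hq _ (cmem x y), map_commutatorElement]
    have e2 : ⁅σ x, σ y⁆ = ⁅σ x, y⁆ ^ l := by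
      rw [hy, h.comm_mul_right, h.comm_pow_right, hEab _ _ hu hk, one_mul]
    have e3 : ⁅σ x, y⁆ = ⁅x, y⁆ := h.cancel (cmem _ _) (cmem _ _) (e2.symm.trans e1) hl
    apply h.center_of_comm hxy
    · rw [h.comm_mul_left, h.comm_inv_left, comm_self, inv_one, mul_one]
      exact hEab _ _ hu hx
    · rw [h.comm_mul_left, h.comm_inv_left, e3, mul_inv_cancel]

end Red

end Red

section Main

variable {X Γ : Type*} [Group X] [Finite X] [Group Γ] [Finite Γ] {p : ℕ} [hp : Fact p.Prime]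

/-- The subgroup generated by the `p`-th powers of commutator subgroup elements. -/
def pw (p : ℕ) (X : Type*) [Group X] : Subgroup X :=
  Subgroup.closure {q | ∃ c ∈ commutator X, c ^ p = q}

instance pw_char : (pw p X).Characteristic := by
  rw [Subgroup.characteristic_iff_map_le]
  intro σ
  rw [pw, MonoidHom.map_closure, Subgroup.closure_le]
  rintro _ ⟨q, ⟨c, hc, rfl⟩, rfl⟩
  apply Subgroup.subset_closure
  refine ⟨σ c, ?_, by simp⟩
  exact (Subgroup.characteristic_iff_map_le.mp inferInstance σ) ⟨c, hc, rfl⟩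

/-- **Coprime action on a metacyclic `p`-group with `[X, Γ] = X`**: `X` is abelian. -/
theorem abelian_of_top (hodd : p ≠ 2) (hX : IsPGroup p X) (hm : IsMetacyclic X) (ρ : Γ →* MulAut X)
    (hcop : (Nat.card Γ).Coprime p) (htop : Subgroup.closure {z | ∃ (γ : Γ) (r : X), z = ρ γ r * r⁻¹} = ⊤) :
    IsMulCommutative X := by
  classical
  by_contra hna
  obtain ⟨a, b, u, m, r, n, hMC⟩ := Cfsg.Agent.Lib.PGroup.Meta.exists_MC hX hm
  set d := a ^ (u - 1) with hd
  have hD : commutator X = Subgroup.zpowers d := hMC.commutator_eq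
  have hd1 : d ≠ 1 := by
    intro h0
    apply hna
    have h1 : commutator X = ⊥ := by
      rw [hD, h0]
      exact Subgroup.zpowers_one_eq_bot
    refine ⟨⟨fun x y => ?_⟩⟩
    have h2 : ⁅x, y⁆ ∈ commutator X := Red.cmem x y
    rw [h1, Subgroup.mem_bot] at h2
    exact commutatorElement_eq_one_iff_mul_comm.mp h2
  have hPle : pw p X ≤ Subgroup.zpowers (d ^ p) := by
    rw [pw, Subgroup.closure_le]
    rintro _ ⟨c, hc, rfl⟩
    rw [hD] at hc
    obtain ⟨k, rfl⟩ := Subgroup.mem_zpowers_iff.mp hc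
    refine Subgroup.mem_zpowers_iff.mpr ⟨k, ?_⟩
    rw [← zpow_natCast, ← zpow_natCast, zpow_comm]
  have hdP : d ∉ pw p X := by
    intro hmem
    have h1 := hPle hmem
    have h2 : Subgroup.zpowers d ≤ Subgroup.zpowers (d ^ p) := by
      rw [Subgroup.zpowers_le]; exact h1
    have h3 : orderOf d ≤ orderOf (d ^ p) := by
      have := Subgroup.card_le_of_le h2
      rwa [Nat.card_zpowers, Nat.card_zpowers] at this
    obtain ⟨e, he⟩ := (IsPGroup.iff_orderOf.mp hX) d
    have he0 : e ≠ 0 := by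
      rintro rfl
      rw [pow_zero, orderOf_eq_one_iff] at he
      exact hd1 he
    have hgcd : Nat.gcd (orderOf d) p = p := by
      rw [he]
      exact Nat.gcd_eq_right (dvd_pow_self p he0)
    have e1 : orderOf (d ^ p) = orderOf d / Nat.gcd (orderOf d) p := orderOf_pow d
    rw [e1, hgcd, he] at h3
    have hpos : 0 < p ^ e := pow_pos hp.out.pos e
    have := Nat.div_lt_self hpos hp.out.one_lt
    omega
  let P := pw p X
  haveI hPn : P.Normal := inferInstance
  let mk : X →* X ⧸ P := QuotientGroup.mk' P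
  have hmks : Function.Surjective mk := QuotientGroup.mk'_surjective P
  have hQp : IsPGroup p (X ⧸ P) := hX.to_quotient P
  have hQc : commutator (X ⧸ P) = Subgroup.zpowers (mk d) := by
    have h1 : commutator (X ⧸ P) = (commutator X).map mk := by
      rw [_root_.commutator_def, _root_.commutator_def, Subgroup.map_commutator, ← MonoidHom.range_eq_map,
        MonoidHom.range_eq_top.mpr hmks]
    rw [h1, hD, MonoidHom.map_zpowers]
  have hdmk : (mk d) ^ p = 1 := by
    rw [← map_pow]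
    refine (QuotientGroup.eq_one_iff _).mpr (Subgroup.subset_closure ⟨d, ?_, rfl⟩)
    rw [hD]
    exact Subgroup.mem_zpowers d
  have hdmk1 : mk d ≠ 1 := fun h0 => hdP ((QuotientGroup.eq_one_iff _).mp h0)
  have hred : Red p (mk a) (mk b) := by
    refine ⟨hQp, hodd, ?_, ?_⟩
    · intro g
      obtain ⟨x, rfl⟩ := hmks g
      obtain ⟨i, j, rfl⟩ := hMC.gen x
      exact ⟨i, j, by simp⟩
    · rw [hQc, Nat.card_zpowers]
      exact orderOf_eq_prime hdmk hdmk1
  -- the induced automorphisms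
  have hmap : ∀ σ : MulAut X, P.map (σ : X →* X) = P := fun σ =>
    Subgroup.characteristic_iff_map_eq.mp inferInstance σ
  let bar : MulAut X → MulAut (X ⧸ P) := fun σ => QuotientGroup.congr P P σ (hmap σ)
  have hbar : ∀ (σ : MulAut X) (x : X), bar σ (mk x) = mk (σ x) := fun _ _ => rfl
  have hgenle : ∀ K : Subgroup X, (∀ (γ : Γ) (r : X), ρ γ r * r⁻¹ ∈ K) → K = ⊤ := by
    intro K hK
    rw [eq_top_iff, ← htop, Subgroup.closure_le]
    rintro _ ⟨γ, r, rfl⟩
    exact hK γ r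
  rcases hred.dichotomy with ⟨x, hx, hfix⟩ | ⟨y, hy, hcomm⟩
  · -- the norm argument on `Q/Z(Q)`
    obtain ⟨x', rfl⟩ := hmks x
    letI : CommGroup ((X ⧸ P) ⧸ center (X ⧸ P)) :=
      { (inferInstance : Group ((X ⧸ P) ⧸ center (X ⧸ P))) with
        mul_comm := by
          intro u v
          obtain ⟨u', rfl⟩ := QuotientGroup.mk'_surjective _ u
          obtain ⟨v', rfl⟩ := QuotientGroup.mk'_surjective _ v
          rw [← map_mul, ← map_mul, eq_comm, ← mul_inv_eq_one, ← map_inv, ← map_mul]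
          apply (QuotientGroup.eq_one_iff _).mpr
          have h1 : (v' * u') * (u' * v')⁻¹ = ⁅v', u'⁆ := by
            simp only [commutatorElement_def]; group
          rw [h1]
          exact Cfsg.Agent.Lib.PGroup.le_center_of_normal_of_card_eq_prime hQp _ hred.card
            (Red.cmem v' u') }
    let F : X →* (X ⧸ P) ⧸ center (X ⧸ P) := (QuotientGroup.mk' _).comp mk
    haveI : Fintype Γ := Fintype.ofFinite Γ
    let N : X →* (X ⧸ P) ⧸ center (X ⧸ P) :=
      { toFun := fun r => ∏ γ : Γ, F (ρ γ r)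
        map_one' := by simp
        map_mul' := by
          intro s t
          simp only [map_mul]
          exact Finset.prod_mul_distrib }
    have hN : ∀ r, N r = ∏ γ : Γ, F (ρ γ r) := fun _ => rfl
    have hNinv : ∀ (τ : Γ) (r : X), N (ρ τ r) = N r := by
      intro τ r
      rw [hN, hN]
      refine Fintype.prod_equiv (Equiv.mulRight τ) _ _ (fun γ => ?_)
      simp only [Equiv.coe_mulRight, map_mul, MulAut.mul_apply]
    have hker : N.ker = ⊤ := by
      apply hgenle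
      intro γ r
      rw [MonoidHom.mem_ker, map_mul, map_inv, hNinv, mul_inv_cancel]
    have hNx : N x' = 1 := by
      have : x' ∈ N.ker := by rw [hker]; trivial
      exact this
    have hFx : ∀ γ : Γ, F (ρ γ x') = F x' := by
      intro γ
      have h1 := hfix (bar (ρ γ))
      rw [hbar] at h1
      have h2 : (QuotientGroup.mk' (center (X ⧸ P))) (mk (ρ γ x') * (mk x')⁻¹) = 1 :=
        (QuotientGroup.eq_one_iff _).mpr h1
      rw [map_mul, map_inv, mul_inv_eq_one] at h2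
      exact h2
    rw [hN] at hNx
    simp only [hFx, Finset.prod_const, Finset.card_univ] at hNx
    rw [← Nat.card_eq_fintype_card] at hNx
    obtain ⟨e, he⟩ := IsPGroup.iff_card.mp hX
    have hFp : (F x') ^ (p ^ e) = 1 := by
      rw [← map_pow, ← he, pow_card_eq_one', map_one]
    have hgcd : Nat.gcd (Nat.card Γ) (p ^ e) = 1 := Nat.Coprime.pow_right e hcop
    have h1 := (pow_gcd_eq_one (a := F x')).mpr ⟨hNx, hFp⟩
    rw [hgcd, pow_one] at h1
    exact hx ((QuotientGroup.eq_one_iff _).mp h1)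
  · -- the hyperplane
    have hK := hgenle ((Subgroup.centralizer ({y} : Set (X ⧸ P))).comap mk) (by
      intro γ r
      rw [Subgroup.mem_comap, Subgroup.mem_centralizer_singleton_iff]
      have h1 := hcomm (bar (ρ γ)) (mk r)
      rw [hbar] at h1
      rw [map_mul, map_inv]
      exact commutatorElement_eq_one_iff_mul_comm.mp h1)
    apply hy
    rw [Subgroup.mem_center_iff]
    intro g
    obtain ⟨g', rfl⟩ := hmks g
    have h1 : g' ∈ (Subgroup.centralizer ({y} : Set (X ⧸ P))).comap mk := by rw [hK]; trivial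
    rw [Subgroup.mem_comap, Subgroup.mem_centralizer_singleton_iff] at h1
    exact h1

/-- Two disjoint nontrivial subgroups of a non-cyclic metacyclic `p`-group are cyclic. -/
theorem cyc_of_disjoint {Y : Type*} [Group Y] [Finite Y] (hodd : p ≠ 2) (hY : IsPGroup p Y)
    (hm : IsMetacyclic Y) (U V : Subgroup Y) (hUV : U ⊓ V = ⊥) (hV : V ≠ ⊥) : IsCyclic U := by
  classical
  by_contra hUc
  have hYc : ¬ IsCyclic Y := fun hc => hUc inferInstance
  have hUm : IsMetacyclic U := Cfsg.Agent.Lib.ClassSizes.Metacyclic.isMetacyclic_subgroup hm U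
  obtain ⟨-, h1⟩ := Cfsg.Agent.Lib.Transfer.omega_of_metacyclic hodd (hY.to_subgroup U)
    hUm hUc
  obtain ⟨-, h2⟩ := Cfsg.Agent.Lib.Transfer.omega_of_metacyclic hodd hY hm hYc
  have hle : (omegaOne p (⊤ : Subgroup U)).map U.subtype ≤ omegaOne p (⊤ : Subgroup Y) := by
    rw [omegaOne, MonoidHom.map_closure, omegaOne]
    apply Subgroup.closure_mono
    rintro _ ⟨x, ⟨-, hx⟩, rfl⟩
    refine ⟨mem_top _, ?_⟩
    show ((x : U) : Y) ^ p = 1
    rw [← Subgroup.coe_pow, hx]
    rfl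
  have heq : (omegaOne p (⊤ : Subgroup U)).map U.subtype = omegaOne p (⊤ : Subgroup Y) := by
    apply Subgroup.eq_of_le_of_card_ge hle
    rw [h2, Subgroup.card_map_of_injective U.subtype_injective, h1]
  obtain ⟨v, hv⟩ : ∃ v : V, orderOf v = p := by
    haveI : Nontrivial V := (Subgroup.nontrivial_iff_ne_bot V).mpr hV
    obtain ⟨k, hk⟩ := IsPGroup.iff_card.mp (hY.to_subgroup V)
    have hk0 : k ≠ 0 := by
      rintro rfl
      rw [pow_zero] at hk
      exact Finite.one_lt_card.ne' hk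
    exact exists_prime_orderOf_dvd_card' p (by rw [hk]; exact dvd_pow_self p hk0)
  have hvY : (v : Y) ^ p = 1 := by
    rw [← Subgroup.coe_pow, ← hv, pow_orderOf_eq_one]
    rfl
  have hmem : (v : Y) ∈ omegaOne p (⊤ : Subgroup Y) :=
    Subgroup.subset_closure ⟨mem_top _, hvY⟩
  rw [← heq] at hmem
  obtain ⟨w, -, hw⟩ := hmem
  have h3 : (v : Y) ∈ U ⊓ V := ⟨hw ▸ w.2, v.2⟩
  rw [hUV, Subgroup.mem_bot] at h3
  have h4 : v = 1 := Subtype.ext h3
  rw [h4, orderOf_one] at hv
  exact hp.out.one_lt.ne hv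

/-- If `Y = U V` with `U` normal and `V` abelian then `Y' ≤ U`. -/
theorem comm_le_of_sup {Y : Type*} [Group Y] (U V : Subgroup Y) [U.Normal] (hUV : U ⊔ V = ⊤)
    (hV : ∀ a ∈ V, ∀ b ∈ V, a * b = b * a) : commutator Y ≤ U := by
  rw [_root_.commutator_def, Subgroup.commutator_le]
  intro x _ y _
  have hx : x ∈ U ⊔ V := by rw [hUV]; trivial
  have hy : y ∈ U ⊔ V := by rw [hUV]; trivial
  obtain ⟨u, hu, v, hv, rfl⟩ := Subgroup.mem_sup_of_normal_left.mp hx
  obtain ⟨u', hu', v', hv', rfl⟩ := Subgroup.mem_sup_of_normal_left.mp hy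
  rw [← QuotientGroup.eq_one_iff]
  have h1 : QuotientGroup.mk' U u = 1 := (QuotientGroup.eq_one_iff u).mpr hu
  have h2 : QuotientGroup.mk' U u' = 1 := (QuotientGroup.eq_one_iff u').mpr hu'
  show QuotientGroup.mk' U ⁅u * v, u' * v'⁆ = 1
  rw [map_commutatorElement, map_mul, map_mul, h1, h2, one_mul, one_mul, ← map_commutatorElement,
    commutatorElement_eq_one_iff_mul_comm.mpr (hV v hv v' hv'), map_one]

/-- The conjugation action on a normalized subgroup. -/
noncomputable def act {G : Type*} [Group G] (T A : Subgroup G) (hA : A ≤ normalizer (T : Set G)) : ↥A →* MulAut ↥T where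
  toFun a := Cfsg.Agent.Lib.Hall.normalizerAut T (hA a.2)
  map_one' := by
    ext x
    show (1 : G) * (x : G) * (1 : G)⁻¹ = x
    simp
  map_mul' a b := by
    ext x
    show ((a : G) * b) * (x : G) * ((a : G) * b)⁻¹ = a * (b * (x : G) * (b : G)⁻¹) * (a : G)⁻¹
    group

theorem act_coe {G : Type*} [Group G] (T A : Subgroup G) (hA : A ≤ normalizer (T : Set G)) (a : A) (t : T) :
    ((act T A hA a t : T) : G) = a * t * (a : G)⁻¹ := rfl

/-- The main consequence for subgroups of a group. -/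
theorem abelian_of_commutator_eq {G : Type*} [Group G] [Finite G] (hodd : p ≠ 2) (T A : Subgroup G)
    (hT : IsPGroup p T) (hm : IsMetacyclic T) (hA : A ≤ normalizer (T : Set G))
    (hcop : (Nat.card A).Coprime p) (hTA : ⁅T, A⁆ = T) : IsMulCommutative T := by
  apply abelian_of_top hodd hT hm (act T A hA) hcop
  rw [eq_top_iff]
  intro t _
  set W := Subgroup.closure {z : T | ∃ (γ : A) (r : T), z = act T A hA γ r * r⁻¹} with hW
  have hle : ⁅T, A⁆ ≤ W.map T.subtype := by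
    rw [Subgroup.commutator_le]
    intro t ht a ha
    refine ⟨(act T A hA ⟨a, ha⟩ ⟨t, ht⟩ * (⟨t, ht⟩ : T)⁻¹)⁻¹, ?_, ?_⟩
    · exact inv_mem (Subgroup.subset_closure ⟨_, _, rfl⟩)
    · simp only [Subgroup.coe_subtype, Subgroup.coe_inv, Subgroup.coe_mul, act_coe, commutatorElement_def]
      group
  rw [hTA] at hle
  obtain ⟨w, hw, hwe⟩ := hle t.2
  have : w = t := Subtype.ext hwe
  rwa [← this]

end Main

end Cfsg.Agent.Lib.OddLocal.MetaCoprime
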