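import Mathlib
import Cfsg.Agent.Lib.Hall.Generation
import Cfsg.Agent.Lib.Hall.CoprimeCommutator
import Cfsg.Agent.Lib.Hall.CoprimeLemmas
import Cfsg.Agent.Lib.Hall.Carter
import Cfsg.Agent.Lib.Amalgam.NormMap
import Cfsg.Agent.Lib.Uniq.Rank
import Cfsg.Agent.Lib.FStar.Signalizer
import Cfsg.Agent.Lib.FStar.Misc

/-!
# Completeness of signalizer-like systems on a solvable group

`A` elementary abelian of order at least `p^(k+2)` acts coprimely on a solvable group `K` which is generated by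
subgroups `H D` (`D ≤ A` of order `p^k`), with `H D ≤ C(D)` and `H D₁ ∩ C(D) ≤ H D`.  Then `C_K(D) ≤ H D`.
-/

set_option autoImplicit false

namespace Cfsg.Agent.Lib.OddLocal.SigC

open Cfsg Subgroup
open scoped commutatorElement

variable {G : Type*} [Group G] [Finite G] {p : ℕ} [hp : Fact p.Prime]

omit [Finite G] hp in
theorem conj_mem_centralizer_of_comm {A B : Subgroup G} (hc : ∀ x ∈ A, ∀ y ∈ A, x * y = y * x) (hBA : B ≤ A)
    {a x : G} (ha : a ∈ A) (hx : x ∈ centralizer (B : Set G)) : a * x * a⁻¹ ∈ centralizer (B : Set G) := by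
  rw [mem_centralizer_iff]
  intro b hb
  have hbx : b * x = x * b := (mem_centralizer_iff.mp hx) b hb
  have h1 : b * a = a * b := hc b (hBA hb) a ha
  have h2 : b * a⁻¹ = a⁻¹ * b := by
    rw [eq_inv_mul_iff_mul_eq, ← mul_assoc, ← h1, mul_assoc, mul_inv_cancel, mul_one]
  calc b * (a * x * a⁻¹) = (b * a) * x * a⁻¹ := by group
    _ = a * (b * x) * a⁻¹ := by rw [h1]; group
    _ = a * x * (b * a⁻¹) := by rw [hbx]; group
    _ = a * x * a⁻¹ * b := by rw [h2]; group

omit [Finite G] hp in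
theorem exists_mul_of_mem_sup {P Q : Subgroup G} (hc : ∀ x ∈ P, ∀ y ∈ Q, x * y = y * x) {e : G} (he : e ∈ P ⊔ Q) :
    ∃ v ∈ P, ∃ u ∈ Q, e = v * u := by
  rw [Subgroup.sup_eq_closure_mul] at he
  induction he using closure_induction with
  | mem x hx =>
    obtain ⟨v, hv, u, hu, rfl⟩ := Set.mem_mul.mp hx
    exact ⟨v, hv, u, hu, rfl⟩
  | one => exact ⟨1, one_mem _, 1, one_mem _, by simp⟩
  | mul a b _ _ iha ihb =>
    obtain ⟨v, hv, u, hu, rfl⟩ := iha
    obtain ⟨v', hv', u', hu', rfl⟩ := ihb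
    refine ⟨v * v', mul_mem hv hv', u * u', mul_mem hu hu', ?_⟩
    have : u * v' = v' * u := (hc v' hv' u hu).symm
    calc v * u * (v' * u') = v * (u * v') * u' := by group
      _ = v * (v' * u) * u' := by rw [this]
      _ = _ := by group
  | inv a _ iha =>
    obtain ⟨v, hv, u, hu, rfl⟩ := iha
    refine ⟨v⁻¹, inv_mem hv, u⁻¹, inv_mem hu, ?_⟩
    have h1 : v⁻¹ * u⁻¹ = u⁻¹ * v⁻¹ := by
      have := hc v hv u hu
      rw [← mul_inv_rev, ← mul_inv_rev, this]
    rw [h1]
    group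

theorem mem_zpowers_of_mem {a v : G} (ha : a ^ p = 1) (hv : v ∈ zpowers a) (hv1 : v ≠ 1) : a ∈ zpowers v := by
  have hvle : zpowers v ≤ zpowers a := zpowers_le.mpr hv
  have ha1 : a ≠ 1 := by
    rintro rfl
    exact hv1 (by simpa using hv)
  have hoa : orderOf a = p := orderOf_eq_prime ha ha1
  have hdvd : Nat.card (zpowers v) ∣ Nat.card (zpowers a) := Subgroup.card_dvd_of_le hvle
  rw [Nat.card_zpowers, Nat.card_zpowers, hoa] at hdvd
  rcases (Nat.dvd_prime hp.out).mp hdvd with h | h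
  · exact absurd (orderOf_eq_one_iff.mp h) hv1
  · have : zpowers v = zpowers a := Subgroup.eq_of_le_of_card_ge hvle (by
      rw [Nat.card_zpowers, Nat.card_zpowers, hoa, h])
    rw [this]
    exact mem_zpowers a

theorem exists_mem_not_mem_of_card_lt {B A : Subgroup G} (h : Nat.card B < Nat.card A) : ∃ a ∈ A, a ∉ B := by
  by_contra hcon
  push Not at hcon
  have h1 : A ≤ B := fun a ha => hcon a ha
  have := Subgroup.card_le_of_le h1
  omega

theorem card_sup_zpowers {B A : Subgroup G} (hc : ∀ x ∈ A, ∀ y ∈ A, x * y = y * x)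
    (he : ∀ x ∈ A, x ^ p = 1) (hBA : B ≤ A) {a : G} (ha : a ∈ A) (haB : a ∉ B) :
    Nat.card (B ⊔ zpowers a : Subgroup G) = Nat.card B * p := by
  have ha1 : a ≠ 1 := by
    rintro rfl
    exact haB (one_mem _)
  have hoa : orderOf a = p := orderOf_eq_prime (he a ha) ha1
  have hzA : zpowers a ≤ A := zpowers_le.mpr ha
  have hn : B ≤ normalizer ((zpowers a : Subgroup G) : Set G) := by
    intro b hb
    apply Cfsg.Agent.Lib.Hall.mem_normalizer_of_conj_le
    intro x hx
    have : b * x = x * b := hc b (hBA hb) x (hzA hx)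
    rw [this]
    simpa using hx
  have hd : B ⊓ zpowers a = ⊥ := by
    rw [eq_bot_iff]
    rintro x ⟨hxB, hxa⟩
    by_contra hx1
    have hx1' : x ≠ 1 := by simpa using hx1
    exact haB (zpowers_le.mpr hxB (mem_zpowers_of_mem (he a ha) hxa hx1'))
  rw [Cfsg.Agent.Lib.Hall.card_sup_of_le_normalizer hn hd, Nat.card_zpowers, hoa]

/-- A subgroup of order `p²` of `A` meeting `B` trivially. -/
theorem exists_disjoint_rank_two {B A : Subgroup G} (hc : ∀ x ∈ A, ∀ y ∈ A, x * y = y * x)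
    (he : ∀ x ∈ A, x ^ p = 1) (hBA : B ≤ A) (hcard : Nat.card B * p ^ 2 ≤ Nat.card A) :
    ∃ E ≤ A, Nat.card E = p ^ 2 ∧ ∀ e ∈ E, e ≠ 1 → e ∉ B := by
  have hpp := hp.out
  have hB0 : 0 < Nat.card B := Nat.card_pos
  have h1 : Nat.card B * p < Nat.card B * p ^ 2 := by
    apply Nat.mul_lt_mul_of_pos_left _ hB0
    nlinarith [hpp.two_le]
  have h0 : Nat.card B < Nat.card B * p := by
    nlinarith [hpp.two_le]
  obtain ⟨a₁, ha₁, ha₁B⟩ := exists_mem_not_mem_of_card_lt (B := B) (A := A) (by omega)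
  have hB₁ : Nat.card (B ⊔ zpowers a₁ : Subgroup G) = Nat.card B * p := card_sup_zpowers hc he hBA ha₁ ha₁B
  obtain ⟨a₂, ha₂, ha₂B⟩ := exists_mem_not_mem_of_card_lt (B := B ⊔ zpowers a₁) (A := A) (by omega)
  have ha₁' : a₁ ≠ 1 := by
    rintro rfl
    exact ha₁B (one_mem _)
  have hzle : zpowers a₁ ≤ A := zpowers_le.mpr ha₁
  have ha₂' : a₂ ∉ zpowers a₁ := fun h => ha₂B (mem_sup_right h)
  have ha₂1 : a₂ ≠ 1 := by
    rintro rfl
    exact ha₂' (one_mem _)
  have ha₁n : a₁ ∉ zpowers a₂ := fun h => ha₂' (mem_zpowers_of_mem (he a₂ ha₂) h ha₁')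
  refine ⟨zpowers a₂ ⊔ zpowers a₁, sup_le (zpowers_le.mpr ha₂) hzle, ?_, ?_⟩
  · rw [card_sup_zpowers hc he (zpowers_le.mpr ha₂) ha₁ ha₁n, Nat.card_zpowers, orderOf_eq_prime (he a₂ ha₂) ha₂1, sq]
  · intro e heE he1 heB
    have hcomm : ∀ x ∈ zpowers a₂, ∀ y ∈ zpowers a₁, x * y = y * x := fun x hx y hy =>
      hc x (zpowers_le.mpr ha₂ hx) y (hzle hy)
    obtain ⟨v, hv, u, hu, rfl⟩ := exists_mul_of_mem_sup hcomm heE
    have hvB : v ∈ B ⊔ zpowers a₁ := by
      have : v = (v * u) * u⁻¹ := by group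
      rw [this]
      exact mul_mem (mem_sup_left heB) (mem_sup_right (inv_mem hu))
    have hv1 : v = 1 := by
      by_contra hv1
      have := mem_zpowers_of_mem (he a₂ ha₂) hv hv1
      exact ha₂B (zpowers_le.mpr hvB this)
    subst hv1
    rw [one_mul] at heB he1
    exact ha₁B (zpowers_le.mpr heB (mem_zpowers_of_mem (he a₁ ha₁) hu he1))

theorem card_pow_of_le {A B : Subgroup G} (he : ∀ x ∈ A, x ^ p = 1) (hBA : B ≤ A) : ∃ n, Nat.card B = p ^ n := by
  have : IsPGroup p B := fun g => ⟨1, Subtype.ext (by simpa using he g (hBA g.2))⟩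
  exact IsPGroup.iff_card.mp this

/-- Generation by centralizers of hyperplanes. -/
theorem gen_hyper {A : Subgroup G} (hc : ∀ x ∈ A, ∀ y ∈ A, x * y = y * x) (he : ∀ x ∈ A, x ^ p = 1) (n : ℕ) :
    ∀ B : Subgroup G, B ≤ A → Nat.card B < Nat.card A → Nat.card A - Nat.card B ≤ n →
      ∀ Y : Subgroup G, A ≤ normalizer (Y : Set G) → p.Coprime (Nat.card Y) →
        Y ⊓ centralizer (B : Set G) ≤
          ⨆ T : {T : Subgroup G // T ≤ A ∧ Nat.card T * p = Nat.card A}, Y ⊓ centralizer ((T : Subgroup G) : Set G) := by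
  have hpp := hp.out
  induction n with
  | zero =>
    intro B _ h1 h2
    omega
  | succ n ih =>
    intro B hBA h1 h2 Y hY hcop
    by_cases hB : Nat.card B * p = Nat.card A
    · exact le_iSup_of_le (f := fun T : {T : Subgroup G // T ≤ A ∧ Nat.card T * p = Nat.card A} =>
        Y ⊓ centralizer ((T : Subgroup G) : Set G)) ⟨B, hBA, hB⟩ le_rfl
    · obtain ⟨m, hm⟩ := card_pow_of_le he (le_refl A)
      obtain ⟨l, hl⟩ := card_pow_of_le he hBA
      have hlm : l < m := by
        rw [hm, hl] at h1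
        exact (Nat.pow_lt_pow_iff_right hpp.one_lt).mp h1
      have hne : l + 1 ≠ m := by
        rintro rfl
        apply hB
        rw [hm, hl, pow_succ]
      have hcard : Nat.card B * p ^ 2 ≤ Nat.card A := by
        rw [hm, hl, ← pow_add]
        exact Nat.pow_le_pow_right hpp.pos (by omega)
      obtain ⟨E, hEA, hEc, hEB⟩ := exists_disjoint_rank_two hc he hBA hcard
      set Y₀ := Y ⊓ centralizer (B : Set G) with hY₀
      have hA₀ : A ≤ normalizer (Y₀ : Set G) := by
        intro a ha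
        apply Cfsg.Agent.Lib.Hall.mem_normalizer_of_conj_le
        rintro x ⟨hx1, hx2⟩
        refine ⟨(mem_normalizer_iff.mp (hY ha) x).mp hx1, ?_⟩
        exact conj_mem_centralizer_of_comm hc hBA ha hx2
      have hcop₀ : p.Coprime (Nat.card Y₀) := hcop.coprime_dvd_right (Subgroup.card_dvd_of_le inf_le_left)
      have hgen := Cfsg.Agent.Lib.Hall.generation_elementary hpp hEc (fun x hx => he x (hEA hx)) (Nat.card Y₀) Y₀ le_rfl
        (hEA.trans hA₀) hcop₀
      rw [← hgen]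
      refine iSup₂_le fun e hed => ?_
      obtain ⟨heE, he1⟩ := hed
      have heA := hEA heE
      have heB := hEB e heE he1
      have hB' := card_sup_zpowers hc he hBA heA heB
      have hpos : 0 < Nat.card B := Nat.card_pos
      have hlt1 : Nat.card B * p < Nat.card B * p ^ 2 :=
        Nat.mul_lt_mul_of_pos_left (by nlinarith [hpp.two_le]) hpos
      have hlt0 : Nat.card B < Nat.card B * p := by nlinarith [hpp.two_le]
      have h3 := ih (B ⊔ zpowers e) (sup_le hBA (zpowers_le.mpr heA)) (by omega) (by omega) Y hY hcop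
      refine le_trans ?_ h3
      rintro x ⟨⟨hxY, hxB⟩, hxe⟩
      refine ⟨hxY, ?_⟩
      show x ∈ centralizer ((B ⊔ zpowers e : Subgroup G) : Set G)
      rw [mem_centralizer_iff]
      intro y hy
      have hy' : y ∈ (B ⊔ zpowers e : Subgroup G) := hy
      have hxC : ∀ y ∈ (B ⊔ zpowers e : Subgroup G), y * x = x * y := by
        intro y hy
        have h5 : (B ⊔ zpowers e : Subgroup G) ≤ centralizer ({x} : Set G) := by
          apply sup_le
          · intro b hb
            rw [mem_centralizer_singleton_iff]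
            exact ((mem_centralizer_iff.mp hxB) b hb)
          · rw [zpowers_le, mem_centralizer_singleton_iff]
            have hxe' : x ∈ centralizer ({e} : Set G) := hxe
            have h0 : x * e = e * x := mem_centralizer_singleton_iff.mp hxe'
            exact h0.symm
        exact (mem_centralizer_singleton_iff.mp (h5 hy))
      exact hxC y hy'

/-- The data of a "system". -/
structure Sys (p k : ℕ) (A : Subgroup G) (H : Subgroup G → Subgroup G) : Prop where
  comm : ∀ x ∈ A, ∀ y ∈ A, x * y = y * x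
  exp : ∀ x ∈ A, x ^ p = 1
  big : p ^ (k + 2) ≤ Nat.card A
  inv : ∀ D, D ≤ A → Nat.card D = p ^ k → A ≤ normalizer (H D : Set G)
  cen : ∀ D, D ≤ A → Nat.card D = p ^ k → H D ≤ centralizer (D : Set G)
  compat : ∀ D, D ≤ A → Nat.card D = p ^ k → ∀ D₁, D₁ ≤ A → Nat.card D₁ = p ^ k →
    H D₁ ⊓ centralizer (D : Set G) ≤ H D

/-- the generating elements -/
def XX (p k : ℕ) (A : Subgroup G) (H : Subgroup G → Subgroup G) : Set G :=
  {x | ∃ T : Subgroup G, T ≤ A ∧ Nat.card T * p = Nat.card A ∧ x ∈ centralizer (T : Set G) ∧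
    ∃ D : Subgroup G, D ≤ T ∧ Nat.card D = p ^ k ∧ x ∈ H D}

variable {k : ℕ} {A : Subgroup G} {H : Subgroup G → Subgroup G}

theorem Sys.exists_le_hyper (S : Sys p k A H) {T : Subgroup G} (hT : T ≤ A) (hTc : Nat.card T * p = Nat.card A) :
    ∃ D ≤ T, Nat.card D = p ^ k := by
  have hpp := hp.out
  obtain ⟨l, hl⟩ := card_pow_of_le S.exp hT
  apply Cfsg.Agent.Lib.Uniq.exists_le_card_of_dvd
  rw [hl]
  apply pow_dvd_pow
  have h1 := S.big
  rw [← hTc, hl, ← pow_succ] at h1
  have := (Nat.pow_le_pow_iff_right hpp.one_lt).mp h1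
  omega

theorem Sys.exists_le_inf (S : Sys p k A H) {T T' : Subgroup G} (hT : T ≤ A) (hTc : Nat.card T * p = Nat.card A)
    (hT' : T' ≤ A) (hTc' : Nat.card T' * p = Nat.card A) :
    ∃ D ≤ T ⊓ T', Nat.card D = p ^ k := by
  have hpp := hp.out
  obtain ⟨l, hl⟩ := card_pow_of_le S.exp (inf_le_left.trans hT : T ⊓ T' ≤ A)
  apply Cfsg.Agent.Lib.Uniq.exists_le_card_of_dvd
  rw [hl]
  apply pow_dvd_pow
  have h1 := S.big
  -- index computation
  have hind : (T ⊓ T').relIndex A ≤ T.relIndex A * T'.relIndex A := Subgroup.relIndex_inf_le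
  have hrel : ∀ W : Subgroup G, W ≤ A → W.relIndex A * Nat.card W = Nat.card A := by
    intro W hW
    have h0 := Subgroup.relIndex_mul_relIndex (⊥ : Subgroup G) W A bot_le hW
    rw [Subgroup.relIndex_bot_left, Subgroup.relIndex_bot_left] at h0
    rw [mul_comm]
    exact h0
  have h2 := hrel T hT
  have h3 := hrel T' hT'
  have h4 := hrel (T ⊓ T') (inf_le_left.trans hT)
  have hA0 : 0 < Nat.card A := Nat.card_pos
  have hTp : T.relIndex A = p := by
    have : T.relIndex A * Nat.card T = p * Nat.card T := by rw [h2, ← hTc]; ring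
    exact Nat.eq_of_mul_eq_mul_right (by
      rcases Nat.eq_zero_or_pos (Nat.card T) with h | h
      · simp [h] at hTc; omega
      · exact h) this
  have hTp' : T'.relIndex A = p := by
    have : T'.relIndex A * Nat.card T' = p * Nat.card T' := by rw [h3, ← hTc']; ring
    exact Nat.eq_of_mul_eq_mul_right (by
      rcases Nat.eq_zero_or_pos (Nat.card T') with h | h
      · simp [h] at hTc'; omega
      · exact h) this
  rw [hTp, hTp'] at hind
  have h5 : p ^ (k + 2) ≤ (T ⊓ T').relIndex A * Nat.card (T ⊓ T' : Subgroup G) := by rw [h4]; exact h1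
  have h6 : p ^ (k + 2) ≤ p * p * p ^ l := by
    rw [hl] at h5
    exact h5.trans (Nat.mul_le_mul_right _ hind)
  have h7 : p * p * p ^ l = p ^ (l + 2) := by ring
  rw [h7] at h6
  have := (Nat.pow_le_pow_iff_right hpp.one_lt).mp h6
  omega

theorem Sys.pair (S : Sys p k A H) {x y : G} (hx : x ∈ XX p k A H) (hy : y ∈ XX p k A H) :
    ∃ D, D ≤ A ∧ Nat.card D = p ^ k ∧ x ∈ H D ∧ y ∈ H D := by
  obtain ⟨T, hT, hTc, hxT, D₁, hD₁T, hD₁, hxD₁⟩ := hx
  obtain ⟨T', hT', hTc', hyT, D₂, hD₂T, hD₂, hyD₂⟩ := hy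
  obtain ⟨D, hD, hDc⟩ := S.exists_le_inf hT hTc hT' hTc'
  have hDA : D ≤ A := (hD.trans inf_le_left).trans hT
  refine ⟨D, hDA, hDc, ?_, ?_⟩
  · exact S.compat D hDA hDc D₁ (hD₁T.trans hT) hD₁
      ⟨hxD₁, Subgroup.centralizer_le (fun z hz => (hD hz).1) hxT⟩
  · exact S.compat D hDA hDc D₂ (hD₂T.trans hT') hD₂
      ⟨hyD₂, Subgroup.centralizer_le (fun z hz => (hD hz).2) hyT⟩

theorem Sys.gen (S : Sys p k A H) {D Y : Subgroup G} (hD : D ≤ A) (hDc : Nat.card D = p ^ k) (hYD : Y ≤ H D)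
    (hY : A ≤ normalizer (Y : Set G)) (hcop : p.Coprime (Nat.card Y)) :
    Y ≤ closure ((Y : Set G) ∩ XX p k A H) := by
  have hpp := hp.out
  have hbot : Nat.card (⊥ : Subgroup G) < Nat.card A := by
    rw [Subgroup.card_bot]
    calc 1 < p ^ (k + 2) := Nat.one_lt_pow (by omega) hpp.one_lt
      _ ≤ _ := S.big
  have h := gen_hyper S.comm S.exp _ ⊥ bot_le hbot le_rfl Y hY hcop
  have h1 : Y ≤ Y ⊓ centralizer ((⊥ : Subgroup G) : Set G) := by
    refine le_inf le_rfl ?_
    intro y _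
    rw [mem_centralizer_iff]
    intro b hb
    have : b = 1 := by simpa using hb
    simp [this]
  refine h1.trans (h.trans (iSup_le ?_))
  rintro ⟨T, hT, hTc⟩
  obtain ⟨D', hD'T, hD'⟩ := S.exists_le_hyper hT hTc
  rintro y ⟨hyY, hyT⟩
  apply Subgroup.subset_closure
  refine ⟨hyY, T, hT, hTc, hyT, D', hD'T, hD', ?_⟩
  exact S.compat D' (hD'T.trans hT) hD' D hD hDc ⟨hYD hyY, Subgroup.centralizer_le hD'T hyT⟩

omit [Finite G] hp in
theorem commutator_le_of_gen {K T : Subgroup G} {X : Set G} (hK : K ≤ closure X) (hXK : X ⊆ K)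
    (hN : K ≤ normalizer (T : Set G)) (h : ∀ x ∈ X, ∀ y ∈ X, ⁅x, y⁆ ∈ T) : ⁅K, K⁆ ≤ T := by
  have hconj : ∀ a ∈ K, ∀ t ∈ T, a * t * a⁻¹ ∈ T := fun a ha t ht => (mem_normalizer_iff.mp (hN ha) t).mp ht
  have hA : ∀ a, a ∈ closure X → ∀ y ∈ X, a ∈ K ∧ ⁅a, y⁆ ∈ T := by
    intro a ha y hy
    induction ha using closure_induction with
    | mem x hx => exact ⟨hXK hx, h x hx y hy⟩
    | one => exact ⟨one_mem _, by simp [commutatorElement_def]⟩
    | mul a b _ _ iha ihb =>
      obtain ⟨ha1, ha2⟩ := iha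
      obtain ⟨hb1, hb2⟩ := ihb
      refine ⟨mul_mem ha1 hb1, ?_⟩
      have e : ⁅a * b, y⁆ = a * ⁅b, y⁆ * a⁻¹ * ⁅a, y⁆ := by
        simp only [commutatorElement_def]; group
      rw [e]
      exact mul_mem (hconj a ha1 _ hb2) ha2
    | inv a _ iha =>
      obtain ⟨ha1, ha2⟩ := iha
      refine ⟨inv_mem ha1, ?_⟩
      have e : ⁅a⁻¹, y⁆ = a⁻¹ * ⁅a, y⁆⁻¹ * a⁻¹⁻¹ := by
        simp only [commutatorElement_def]; group
      rw [e]
      exact hconj _ (inv_mem ha1) _ (inv_mem ha2)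
  rw [Subgroup.commutator_le]
  intro a ha b hb
  have key : ∀ b, b ∈ closure X → b ∈ K ∧ ⁅a, b⁆ ∈ T := by
    intro b hb
    induction hb using closure_induction with
    | mem x hx => exact ⟨hXK hx, (hA a (hK ha) x hx).2⟩
    | one => exact ⟨one_mem _, by simp [commutatorElement_def]⟩
    | mul b c _ _ ihb ihc =>
      obtain ⟨hb1, hb2⟩ := ihb
      obtain ⟨hc1, hc2⟩ := ihc
      refine ⟨mul_mem hb1 hc1, ?_⟩
      have e : ⁅a, b * c⁆ = ⁅a, b⁆ * (b * ⁅a, c⁆ * b⁻¹) := by
        simp only [commutatorElement_def]; group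
      rw [e]
      exact mul_mem hb2 (hconj b hb1 _ hc2)
    | inv b _ ihb =>
      obtain ⟨hb1, hb2⟩ := ihb
      refine ⟨inv_mem hb1, ?_⟩
      have e : ⁅a, b⁻¹⁆ = b⁻¹ * ⁅a, b⁆⁻¹ * b⁻¹⁻¹ := by
        simp only [commutatorElement_def]; group
      rw [e]
      exact hconj _ (inv_mem hb1) _ (inv_mem hb2)
  exact (key b (hK hb)).2

/-- conjugation on an invariant subgroup -/
def conjHom (K : Subgroup G) (d : G) (hd : d ∈ normalizer (K : Set G)) : ↥K →* ↥K where
  toFun g := ⟨d * g * d⁻¹, (mem_normalizer_iff.mp hd g).mp g.2⟩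
  map_one' := by ext; simp
  map_mul' := by
    intro x y
    ext
    simp only [coe_mul]
    group

/-- **The key step**: the image in `K/K'` of the `D`-fixed points of `K`. -/
theorem fixed_mem_of_gen {K D : Subgroup G} (hDK : D ≤ normalizer (K : Set G))
    (hcop : (Nat.card D).Coprime (Nat.card K)) (hsolv : Group.IsSolvable K) (Z : Subgroup G) {X : Set G}
    (hKX : K ≤ closure X)
    (hX : ∀ g ∈ X, ∃ Y : Subgroup G, g ∈ Y ∧ Y ≤ K ∧ D ≤ normalizer (Y : Set G) ∧
      Y ⊓ centralizer (D : Set G) ≤ Z) {x : G} (hxK : x ∈ K) (hxD : x ∈ centralizer (D : Set G)) :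
    ∃ h ∈ K ⊓ Z, h⁻¹ * x ∈ ⁅K, K⁆ := by
  classical
  haveI : Fintype ↥D := Fintype.ofFinite _
  let of : ↥K →* Abelianization ↥K := Abelianization.of
  let c : ↥D → (↥K →* ↥K) := fun δ => conjHom K δ (hDK δ.2)
  let Φ : ↥K →* Abelianization ↥K := ∏ δ : ↥D, of.comp (c δ)
  have hΦ : ∀ g, Φ g = ∏ δ : ↥D, of (c δ g) := by
    intro g
    simp [Φ, MonoidHom.finsetProd_apply]
  have hΦc : ∀ (δ₀ : ↥D) (g : ↥K), Φ (c δ₀ g) = Φ g := by
    intro δ₀ g
    rw [hΦ, hΦ]
    apply Fintype.prod_equiv (Equiv.mulRight δ₀)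
    intro δ
    congr 1
    ext
    simp only [c, conjHom, MonoidHom.coe_mk, OneHom.coe_mk, Equiv.coe_mulRight, Subgroup.coe_mul]
    group
  have hΦfix : ∀ g : ↥K, (g : G) ∈ centralizer (D : Set G) → Φ g = of g ^ Nat.card D := by
    intro g hg
    rw [hΦ]
    have : ∀ δ : ↥D, of (c δ g) = of g := by
      intro δ
      congr 1
      ext
      simp only [c, conjHom, MonoidHom.coe_mk, OneHom.coe_mk]
      have h1 := (mem_centralizer_iff.mp hg) δ δ.2
      rw [h1]
      group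
    simp only [this, Finset.prod_const, Finset.card_univ, Nat.card_eq_fintype_card]
  let P : Subgroup (Abelianization ↥K) := ((K ⊓ Z).subgroupOf K).map of
  let W₀ : Subgroup G := (P.comap Φ).map K.subtype
  have hKW : K ≤ W₀ := by
    refine hKX.trans ((closure_le _).mpr ?_)
    intro g hg
    obtain ⟨Y, hgY, hYK, hDY, hYZ⟩ := hX g hg
    have hcopY : (Nat.card D).Coprime (Nat.card Y) := hcop.coprime_dvd_right (Subgroup.card_dvd_of_le hYK)
    have hsolvY : Group.IsSolvable Y :=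
      Group.isSolvable_of_isSolvable_injective (f := Subgroup.inclusion hYK) (Subgroup.inclusion_injective hYK)
    have hsup := Cfsg.Agent.Lib.Hall.commutator_sup_centralizer D Y hDY hcopY (Or.inr hsolvY)
    have hle : ⁅Y, D⁆ ⊔ (Y ⊓ centralizer (D : Set G)) ≤ W₀ := by
      apply sup_le
      · rw [Subgroup.commutator_le]
        intro w hw δ hδ
        refine ⟨⟨w, hYK hw⟩ * (c ⟨δ, hδ⟩ ⟨w, hYK hw⟩)⁻¹, ?_, ?_⟩
        · show Φ _ ∈ P
          rw [map_mul, map_inv, hΦc, mul_inv_cancel]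
          exact one_mem _
        · simp only [Subgroup.subtype_apply, Subgroup.coe_mul, Subgroup.coe_inv, c, conjHom, MonoidHom.coe_mk,
            OneHom.coe_mk, commutatorElement_def]
          group
      · rintro y ⟨hyY, hyD⟩
        refine ⟨⟨y, hYK hyY⟩, ?_, rfl⟩
        show Φ _ ∈ P
        rw [hΦfix _ hyD]
        apply Subgroup.pow_mem
        exact ⟨⟨y, hYK hyY⟩, (show y ∈ K ⊓ Z from ⟨hYK hyY, hYZ ⟨hyY, hyD⟩⟩), rfl⟩
    apply hle
    rw [hsup]
    exact hgY
  have hxW : x ∈ W₀ := hKW hxK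
  obtain ⟨x', hx'P, rfl⟩ := hxW
  have h1 : of x' ^ Nat.card D ∈ P := by
    rw [← hΦfix x' hxD]
    exact hx'P
  have hord : (orderOf (of x')).Coprime (Nat.card D) := by
    have h2 : orderOf (of x') ∣ orderOf x' := orderOf_map_dvd of x'
    have h3 : orderOf x' ∣ Nat.card K := orderOf_dvd_natCard x'
    exact (hcop.symm).coprime_dvd_left (h2.trans h3)
  have h2 : of x' ∈ P := Cfsg.Agent.Lib.Amalgam.mem_of_pow_coprime hord h1
  obtain ⟨h', hh'mem, hh'⟩ := h2
  have hh'mem2 : (h' : G) ∈ K ⊓ Z := hh'mem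
  refine ⟨h', hh'mem2, ?_⟩
  have h3 : h'⁻¹ * x' ∈ commutator ↥K := by
    rw [← Abelianization.ker_of, MonoidHom.mem_ker, map_mul, map_inv]
    show (of h')⁻¹ * of x' = 1
    rw [hh', inv_mul_cancel]
  have e : (commutator ↥K).map K.subtype = ⁅K, K⁆ := by
    rw [commutator_def, Subgroup.map_commutator, ← MonoidHom.range_eq_map, Subgroup.range_subtype]
  rw [← e]
  exact ⟨_, h3, by simp⟩

/-- **Completeness on solvable groups.** -/
theorem Sys.main (S : Sys p k A H) (n : ℕ) : ∀ K : Subgroup G, Nat.card K ≤ n → Group.IsSolvable K →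
    A ≤ normalizer (K : Set G) → p.Coprime (Nat.card K) →
    K ≤ ⨆ D : {D : Subgroup G // D ≤ A ∧ Nat.card D = p ^ k}, K ⊓ H D →
    ∀ D, D ≤ A → Nat.card D = p ^ k → K ⊓ centralizer (D : Set G) ≤ H D := by
  have hpp := hp.out
  induction n with
  | zero =>
    intro K hK
    have := Nat.card_pos (α := K)
    omega
  | succ n ih =>
    intro K hKn hsolv hAK hcop hKgen D hDA hDc
    by_cases hK1 : K = ⊥
    · subst hK1
      rw [bot_inf_eq]
      exact bot_le
    have hK'K : ⁅K, K⁆ ≤ K := by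
      rw [Subgroup.commutator_le]
      intro a ha b hb
      simp only [commutatorElement_def]
      exact mul_mem (mul_mem (mul_mem ha hb) (inv_mem ha)) (inv_mem hb)
    have e : (commutator ↥K).map K.subtype = ⁅K, K⁆ := by
      rw [commutator_def, Subgroup.map_commutator, ← MonoidHom.range_eq_map, Subgroup.range_subtype]
    have hK'lt : Nat.card (⁅K, K⁆ : Subgroup G) < Nat.card K := by
      haveI : Nontrivial K := (Subgroup.nontrivial_iff_ne_bot K).mpr hK1
      have hlt := Group.IsSolvable.commutator_lt_top_of_nontrivial (G := ↥K)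
      have hcard : Nat.card (⁅K, K⁆ : Subgroup G) = Nat.card (commutator ↥K) := by
        rw [← e]
        exact Subgroup.card_map_of_injective K.subtype_injective
      rw [hcard]
      have := Cfsg.Agent.Lib.Core.card_lt_card_of_lt hlt
      simpa using this
    set K' : Subgroup G := ⁅K, K⁆ with hK'
    have hsolv' : Group.IsSolvable K' :=
      Group.isSolvable_of_isSolvable_injective (f := Subgroup.inclusion hK'K) (Subgroup.inclusion_injective hK'K)
    have hAK' : A ≤ normalizer (K' : Set G) := by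
      intro a ha
      apply Cfsg.Agent.Lib.Hall.mem_normalizer_of_conj_le
      intro x hx
      have h1 : K' ≤ K'.comap (MulAut.conj a).toMonoidHom := by
        rw [hK', Subgroup.commutator_le]
        intro u hu v hv
        show a * ⁅u, v⁆ * a⁻¹ ∈ ⁅K, K⁆
        have h2 : a * ⁅u, v⁆ * a⁻¹ = ⁅a * u * a⁻¹, a * v * a⁻¹⁆ := by
          simp only [commutatorElement_def]; group
        rw [h2]
        exact Subgroup.commutator_mem_commutator ((mem_normalizer_iff.mp (hAK ha) u).mp hu)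
          ((mem_normalizer_iff.mp (hAK ha) v).mp hv)
      exact h1 hx
    have hcop' : p.Coprime (Nat.card K') := hcop.coprime_dvd_right (Subgroup.card_dvd_of_le hK'K)
    have hinfN : ∀ (W : Subgroup G), A ≤ normalizer (W : Set G) → ∀ D₀, D₀ ≤ A → Nat.card D₀ = p ^ k →
        A ≤ normalizer ((W ⊓ H D₀ : Subgroup G) : Set G) := by
      intro W hW D₀ h1 h2 a ha
      apply Cfsg.Agent.Lib.Hall.mem_normalizer_of_conj_le
      intro x hx
      obtain ⟨hx1, hx2⟩ := Subgroup.mem_inf.mp hx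
      exact ⟨(mem_normalizer_iff.mp (hW ha) x).mp hx1, (mem_normalizer_iff.mp (S.inv D₀ h1 h2 ha) x).mp hx2⟩
    set X₀ : Set G := (K : Set G) ∩ XX p k A H with hX₀
    have hKX : K ≤ closure X₀ := by
      refine hKgen.trans (iSup_le ?_)
      rintro ⟨D₀, h1, h2⟩
      refine (S.gen h1 h2 inf_le_right (hinfN K hAK D₀ h1 h2)
        (hcop.coprime_dvd_right (Subgroup.card_dvd_of_le inf_le_left))).trans ?_
      apply Subgroup.closure_mono
      rintro y ⟨⟨hy1, _⟩, hy3⟩
      exact ⟨hy1, hy3⟩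
    set T' : Subgroup G := closure ((K' : Set G) ∩ XX p k A H) with hT'
    have hsub : ∀ D₀, D₀ ≤ A → Nat.card D₀ = p ^ k → K' ⊓ H D₀ ≤ T' := by
      intro D₀ h1 h2
      refine (S.gen h1 h2 inf_le_right (hinfN K' hAK' D₀ h1 h2)
        (hcop'.coprime_dvd_right (Subgroup.card_dvd_of_le inf_le_left))).trans ?_
      apply Subgroup.closure_mono
      rintro y ⟨⟨hy1, _⟩, hy3⟩
      exact ⟨hy1, hy3⟩
    have hcomm : ∀ x ∈ X₀, ∀ y ∈ X₀, ⁅x, y⁆ ∈ T' := by
      rintro x ⟨hx1, hx2⟩ y ⟨hy1, hy2⟩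
      obtain ⟨D₀, h1, h2, h3, h4⟩ := S.pair hx2 hy2
      apply hsub D₀ h1 h2
      refine ⟨Subgroup.commutator_mem_commutator hx1 hy1, ?_⟩
      have h3' : x ∈ H D₀ := h3
      have h4' : y ∈ H D₀ := h4
      show ⁅x, y⁆ ∈ H D₀
      simp only [commutatorElement_def]
      exact Subgroup.mul_mem _ (Subgroup.mul_mem _ (Subgroup.mul_mem _ h3' h4') (Subgroup.inv_mem _ h3')) (Subgroup.inv_mem _ h4')
    have hnormT : K ≤ normalizer (T' : Set G) := by
      refine hKX.trans ((closure_le _).mpr ?_)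
      rintro x ⟨hx1, hx2⟩
      apply Cfsg.Agent.Lib.Hall.mem_normalizer_of_conj_le
      intro t ht
      have h1 : T' ≤ T'.comap (MulAut.conj x).toMonoidHom := by
        rw [hT', closure_le]
        rintro y ⟨hy1, hy2⟩
        show x * y * x⁻¹ ∈ T'
        have h2 : x * y * x⁻¹ = ⁅x, y⁆ * y := by
          simp only [commutatorElement_def]; group
        rw [h2]
        exact mul_mem (hcomm x ⟨hx1, hx2⟩ y ⟨hK'K hy1, hy2⟩) (Subgroup.subset_closure ⟨hy1, hy2⟩)
      exact h1 ht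
    have hK'T : K' ≤ T' := commutator_le_of_gen hKX (fun x hx => hx.1) hnormT hcomm
    have hK'gen : K' ≤ ⨆ D : {D : Subgroup G // D ≤ A ∧ Nat.card D = p ^ k}, K' ⊓ H D := by
      refine hK'T.trans ((closure_le _).mpr ?_)
      rintro y ⟨hy1, T, hT, hTc, hyT, D₀, hD₀T, hD₀, hyD₀⟩
      have h1 : K' ⊓ H D₀ ≤ ⨆ D : {D : Subgroup G // D ≤ A ∧ Nat.card D = p ^ k}, K' ⊓ H D :=
        le_iSup_of_le (f := fun D : {D : Subgroup G // D ≤ A ∧ Nat.card D = p ^ k} => K' ⊓ H D)
          ⟨D₀, hD₀T.trans hT, hD₀⟩ le_rfl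
      exact h1 ⟨hy1, hyD₀⟩
    have hIH := ih K' (by omega) hsolv' hAK' hcop' hK'gen D hDA hDc
    -- the abelian step
    intro x hx
    obtain ⟨hxK, hxD⟩ := Subgroup.mem_inf.mp hx
    have hcopD : (Nat.card D).Coprime (Nat.card K) := by
      rw [hDc]
      exact Nat.Coprime.pow_left _ hcop
    obtain ⟨h, ⟨hhK, hhD⟩, hhx⟩ := fixed_mem_of_gen (Z := H D) (hDA.trans hAK) hcopD hsolv hKX
      (by
        rintro g ⟨hgK, T, hT, hTc, hgT, D₀, hD₀T, hD₀, hgD₀⟩
        refine ⟨K ⊓ H D₀ ⊓ centralizer (T : Set G), ⟨⟨hgK, hgD₀⟩, hgT⟩, inf_le_left.trans inf_le_left, ?_, ?_⟩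
        · intro a ha
          apply Cfsg.Agent.Lib.Hall.mem_normalizer_of_conj_le
          rintro y ⟨⟨hy1, hy2⟩, hy3⟩
          have haA := hDA ha
          exact ⟨⟨(mem_normalizer_iff.mp (hAK haA) y).mp hy1, (mem_normalizer_iff.mp (S.inv D₀ (hD₀T.trans hT) hD₀ haA) y).mp hy2⟩,
            conj_mem_centralizer_of_comm S.comm hT haA hy3⟩
        · rintro y ⟨⟨⟨_, hy2⟩, _⟩, hy4⟩
          exact S.compat D hDA hDc D₀ (hD₀T.trans hT) hD₀ ⟨hy2, hy4⟩) hxK hxD
    have hu : h⁻¹ * x ∈ K' ⊓ centralizer (D : Set G) := by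
      refine ⟨hhx, Subgroup.mul_mem _ (Subgroup.inv_mem _ (S.cen D hDA hDc hhD)) hxD⟩
    have := mul_mem hhD (hIH hu)
    simpa using this

/-- **S1299.** -/
theorem kBalanced_functor (p k : ℕ) [Fact p.Prime] (hk : 1 ≤ k) (hbal : IsKBalanced p k G) (A : Subgroup G)
    (hA : IsElementaryAbelian p A) (hAk : p ^ (k + 2) ≤ Nat.card ↥A)
    (hsolv : ∀ a ∈ A, a ≠ 1 → Group.IsSolvable ↥(centralizerPPrimeCore p a)) :
    IsSignalizerFunctor p A
      (fun a => ⨆ D : {D : Subgroup G // D ≤ A ∧ Nat.card ↥D = p ^ k}, signalizerDelta p (D : Subgroup G) ⊓ centralizer {a}) := by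
  have hpp : p.Prime := Fact.out
  have hc : ∀ x ∈ A, ∀ y ∈ A, x * y = y * x := by
    intro x hx y hy
    haveI := hA.1
    have := mul_comm' (⟨x, hx⟩ : A) ⟨y, hy⟩
    exact congrArg Subtype.val this
  have he := hA.2
  have hord : ∀ a ∈ A, a ≠ 1 → orderOf a = p := fun a ha ha1 => orderOf_eq_prime (he a ha) ha1
  have hΔmem : ∀ (D : Subgroup G) (x : G), x ∈ signalizerDelta p D ↔ ∀ d ∈ D, d ≠ 1 → x ∈ centralizerPPrimeCore p d := by
    intro D x
    unfold signalizerDelta
    rw [Subgroup.mem_iInf]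
    constructor
    · intro h d hd hd1
      exact h ⟨d, hd, hd1⟩
    · rintro h ⟨d, hd, hd1⟩
      exact h d hd hd1
  have hΔbal : ∀ D, D ≤ A → Nat.card D = p ^ k → ∀ b ∈ A, b ≠ 1 →
      signalizerDelta p D ⊓ centralizer {b} ≤ centralizerPPrimeCore p b := by
    intro D hD hDc b hb hb1
    apply hbal D ⟨⟨⟨fun x y => Subtype.ext (hc x (hD x.2) y (hD y.2))⟩⟩, fun a ha => he a (hD ha)⟩ hDc b (hord b hb hb1)
    intro a ha
    exact hc a (hD ha) b hb
  have hΔinv : ∀ D, D ≤ A → ∀ b ∈ A, ∀ x ∈ signalizerDelta p D, b * x * b⁻¹ ∈ signalizerDelta p D := by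
    intro D hD b hb x hx
    rw [hΔmem] at hx ⊢
    intro d hd hd1
    exact Cfsg.Agent.Lib.FStar.centralizerPPrimeCore_conj (hc b hb d (hD hd)) (hx d hd hd1)
  have hS : ∀ a ∈ A, a ≠ 1 → Sys p k A (fun D => signalizerDelta p D ⊓ centralizer {a}) := by
    intro a ha ha1
    refine ⟨hc, he, hAk, ?_, ?_, ?_⟩
    · intro D hD _ b hb
      apply Cfsg.Agent.Lib.Hall.mem_normalizer_of_conj_le
      intro x hx
      obtain ⟨hx1, hx2⟩ := Subgroup.mem_inf.mp hx
      refine ⟨hΔinv D hD b hb x hx1, ?_⟩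
      have h1 : a * x = x * a := (mem_centralizer_singleton_iff.mp hx2).symm
      show b * x * b⁻¹ ∈ centralizer {a}
      rw [mem_centralizer_singleton_iff]
      have h2 : b * a = a * b := hc b hb a ha
      have h3 : a * b⁻¹ = b⁻¹ * a := by
        rw [eq_inv_mul_iff_mul_eq, ← mul_assoc, h2, mul_assoc, mul_inv_cancel, mul_one]
      have key : a * (b * x * b⁻¹) = b * x * b⁻¹ * a := by
        calc a * (b * x * b⁻¹) = (a * b) * x * b⁻¹ := by group
          _ = b * (a * x) * b⁻¹ := by rw [← h2]; group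
          _ = b * x * (a * b⁻¹) := by rw [h1]; group
          _ = b * x * b⁻¹ * a := by rw [h3]; group
      exact key.symm
    · intro D _ _ x hx
      obtain ⟨hx1, _⟩ := Subgroup.mem_inf.mp hx
      rw [hΔmem] at hx1
      show x ∈ centralizer (D : Set G)
      rw [mem_centralizer_iff]
      intro d hd
      by_cases hd1 : d = 1
      · simp [hd1]
      · have h1 := Cfsg.Agent.Lib.FStar.centralizerPPrimeCore_le p d (hx1 d hd hd1)
        exact (mem_centralizer_singleton_iff.mp h1).symm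
    · intro D hD _ D₁ hD₁ hD₁c x hx
      obtain ⟨hx1, hx2⟩ := Subgroup.mem_inf.mp hx
      obtain ⟨hx3, hx4⟩ := Subgroup.mem_inf.mp hx1
      refine ⟨?_, hx4⟩
      show x ∈ signalizerDelta p D
      rw [hΔmem]
      intro d hd hd1
      apply hΔbal D₁ hD₁ hD₁c d (hD hd) hd1
      refine ⟨hx3, ?_⟩
      show x ∈ centralizer {d}
      rw [mem_centralizer_singleton_iff]
      exact ((mem_centralizer_iff.mp hx2) d hd).symm
  have hθle : ∀ a ∈ A, a ≠ 1 → (⨆ D : {D : Subgroup G // D ≤ A ∧ Nat.card ↥D = p ^ k},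
      signalizerDelta p (D : Subgroup G) ⊓ centralizer {a}) ≤ centralizerPPrimeCore p a := by
    intro a ha ha1
    exact iSup_le fun D => hΔbal D D.2.1 D.2.2 a ha ha1
  have hθinv : ∀ a ∈ A, a ≠ 1 → A ≤ normalizer (((⨆ D : {D : Subgroup G // D ≤ A ∧ Nat.card ↥D = p ^ k},
      signalizerDelta p (D : Subgroup G) ⊓ centralizer {a} : Subgroup G)) : Set G) := by
    intro a ha ha1 b hb
    apply Cfsg.Agent.Lib.Hall.mem_normalizer_of_conj_le
    intro x hx
    set K := (⨆ D : {D : Subgroup G // D ≤ A ∧ Nat.card ↥D = p ^ k},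
      signalizerDelta p (D : Subgroup G) ⊓ centralizer {a} : Subgroup G) with hK
    have h1 : K ≤ K.comap (MulAut.conj b).toMonoidHom := by
      apply iSup_le
      rintro ⟨D, hD, hDc⟩
      intro y hy
      have h2 := (mem_normalizer_iff.mp ((hS a ha ha1).inv D hD hDc hb) y).mp hy
      exact (le_iSup (f := fun D : {D : Subgroup G // D ≤ A ∧ Nat.card ↥D = p ^ k} =>
        signalizerDelta p (D : Subgroup G) ⊓ centralizer {a}) ⟨D, hD, hDc⟩) h2
    exact h1 hx
  refine ⟨?_, ?_, ?_, ?_⟩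
  · intro a _ _
    exact iSup_le fun D => inf_le_right
  · intro a ha ha1 hdvd
    exact Cfsg.Agent.Lib.FStar.not_dvd_card_centralizerPPrimeCore (p := p) a
      (hdvd.trans (Subgroup.card_dvd_of_le (hθle a ha ha1)))
  · intro a ha ha1 b hb x hx
    exact (mem_normalizer_iff.mp (hθinv a ha ha1 hb) x).mp hx
  · intro a ha ha1 b hb hb1 x hx
    obtain ⟨hxK, hxb⟩ := Subgroup.mem_inf.mp hx
    set K := (⨆ D : {D : Subgroup G // D ≤ A ∧ Nat.card ↥D = p ^ k},
      signalizerDelta p (D : Subgroup G) ⊓ centralizer {a} : Subgroup G) with hK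
    have hKa : K ≤ centralizerPPrimeCore p a := hθle a ha ha1
    have hsolvK : Group.IsSolvable K := by
      haveI := hsolv a ha ha1
      exact Group.isSolvable_of_isSolvable_injective (f := Subgroup.inclusion hKa) (Subgroup.inclusion_injective hKa)
    have hcopK : p.Coprime (Nat.card K) := by
      rw [Nat.Prime.coprime_iff_not_dvd hpp]
      intro hdvd
      exact Cfsg.Agent.Lib.FStar.not_dvd_card_centralizerPPrimeCore (p := p) a
        (hdvd.trans (Subgroup.card_dvd_of_le hKa))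
    have hAK := hθinv a ha ha1
    have hmain := (hS a ha ha1).main (Nat.card K) K le_rfl hsolvK hAK hcopK (by
      apply iSup_mono
      intro D
      exact le_inf (le_iSup (f := fun D : {D : Subgroup G // D ≤ A ∧ Nat.card ↥D = p ^ k} =>
        signalizerDelta p (D : Subgroup G) ⊓ centralizer {a}) D) le_rfl)
    -- now generation for `X = C_K(b)`
    set X := K ⊓ centralizer ({b} : Set G) with hX
    have hAX : A ≤ normalizer (X : Set G) := by
      intro c hc'
      apply Cfsg.Agent.Lib.Hall.mem_normalizer_of_conj_le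
      intro y hy
      obtain ⟨hy1, hy2⟩ := Subgroup.mem_inf.mp hy
      refine ⟨(mem_normalizer_iff.mp (hAK hc') y).mp hy1, ?_⟩
      have h2 : y ∈ centralizer ((zpowers b : Subgroup G) : Set G) := by
        rw [mem_centralizer_iff]
        intro z hz
        have hzC : zpowers b ≤ centralizer ({y} : Set G) := by
          rw [zpowers_le, mem_centralizer_singleton_iff]
          exact (mem_centralizer_singleton_iff.mp hy2).symm
        exact mem_centralizer_singleton_iff.mp (hzC hz)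
      have h3 := conj_mem_centralizer_of_comm hc (zpowers_le.mpr hb) hc' h2
      show c * y * c⁻¹ ∈ centralizer {b}
      rw [mem_centralizer_singleton_iff]
      exact ((mem_centralizer_iff.mp h3) b (mem_zpowers b)).symm
    have hcopX : p.Coprime (Nat.card X) := hcopK.coprime_dvd_right (Subgroup.card_dvd_of_le inf_le_left)
    have hbot : Nat.card (⊥ : Subgroup G) < Nat.card A := by
      rw [Subgroup.card_bot]
      calc 1 < p ^ (k + 2) := Nat.one_lt_pow (by omega) hpp.one_lt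
        _ ≤ _ := hAk
    have hgen := gen_hyper hc he _ ⊥ bot_le hbot le_rfl X hAX hcopX
    have hxX : x ∈ X ⊓ centralizer (((⊥ : Subgroup G) : Subgroup G) : Set G) := by
      refine ⟨hx, ?_⟩
      show x ∈ centralizer (((⊥ : Subgroup G) : Subgroup G) : Set G)
      rw [mem_centralizer_iff]
      intro z hz
      have : z = 1 := by simpa using hz
      simp [this]
    have hfin := hgen hxX
    revert hfin
    apply (show (⨆ T : {T : Subgroup G // T ≤ A ∧ Nat.card T * p = Nat.card A},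
        X ⊓ centralizer ((T : Subgroup G) : Set G)) ≤ _ from iSup_le ?_)
    rintro ⟨T, hT, hTc⟩ y hy
    obtain ⟨hy1, hy2⟩ := Subgroup.mem_inf.mp hy
    obtain ⟨hy3, hy4⟩ := Subgroup.mem_inf.mp hy1
    obtain ⟨D, hDT, hDc⟩ := (hS a ha ha1).exists_le_hyper hT hTc
    have hyD := hmain D (hDT.trans hT) hDc ⟨hy3, Subgroup.centralizer_le hDT hy2⟩
    obtain ⟨hy5, _⟩ := Subgroup.mem_inf.mp hyD
    exact (le_iSup (f := fun D : {D : Subgroup G // D ≤ A ∧ Nat.card ↥D = p ^ k} =>
        signalizerDelta p (D : Subgroup G) ⊓ centralizer {b}) ⟨D, hDT.trans hT, hDc⟩) ⟨hy5, hy4⟩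

end Cfsg.Agent.Lib.OddLocal.SigC
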